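import Mathlib

set_option autoImplicit false
open Polynomial
namespace Groth.Agent.BddFinLib

variable {K : Type*} [Field K] {V : Type*} [AddCommGroup V] [Module K V]
variable (q : QuadraticForm K V)

theorem unipotent_isometry (hq : q.Anisotropic) (h2 : (2 : K) ≠ 0) (g : V ≃ₗ[K] V)
    (hg : ∀ x, q (g x) = q x) (N : ℕ) (hN : ((g : Module.End K V) - 1) ^ N = 0) : g = 1 := by
  have step : ∀ v, (g : Module.End K V) (g v - v) = g v - v → g v = v := by
    intro v hv
    set w := g v - v with hw
    have e1 : g v = v + w := by simp [hw]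
    have e2 : g (g v) = v + (2 : K) • w := by
      rw [e1, map_add]; rw [show g w = w from hv, e1, two_smul]; abel
    have h1 := hg v
    rw [e1, QuadraticMap.map_add (f := ⇑q)] at h1
    have h3 := (hg (g v)).trans (hg v)
    rw [e2, QuadraticMap.map_add (f := ⇑q), QuadraticMap.polar_smul_right, QuadraticMap.map_smul, smul_eq_mul, smul_eq_mul] at h3
    have : (2 : K) * q w = 0 := by linear_combination h3 - 2 * h1
    have := hq w ((mul_eq_zero.1 this).resolve_left h2)
    rwa [hw, sub_eq_zero] at this
  induction N with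
  | zero =>
    ext v
    have := LinearMap.congr_fun hN v
    simp only [pow_zero, Module.End.one_apply, LinearMap.zero_apply] at this
    simp [this]
  | succ N ih =>
    cases N with
    | zero =>
      ext v
      have := LinearMap.congr_fun hN v
      simpa [sub_eq_zero] using this
    | succ M =>
      refine ih (LinearMap.ext fun v => ?_)
      set u := (((g : Module.End K V) - 1) ^ M) v
      have h1 := LinearMap.congr_fun hN v
      rw [pow_succ', pow_succ', Module.End.mul_apply, Module.End.mul_apply] at h1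
      rw [pow_succ', Module.End.mul_apply]
      have h2 : g u = u := step u (by simpa [sub_eq_zero, u] using h1)
      simp [h2, u]

theorem sq_eq_one_of_finite_order [FiniteDimensional K V]
    (hK : ∀ n : ℕ, 0 < n → (X ^ n - 1 : K[X]).Splits) (hq : q.Anisotropic) (h2 : (2 : K) ≠ 0)
    (g : V ≃ₗ[K] V) (hg : ∀ x, q (g x) = q x) (d : ℕ) (hd : 0 < d) (hgd : g ^ d = 1) :
    g ^ 2 = 1 := by
  set f : Module.End K V := (g : Module.End K V) with hf
  have hfd : f ^ d = 1 := by
    have : ∀ k : ℕ, ((g ^ k : V ≃ₗ[K] V) : Module.End K V) = f ^ k := by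
      intro k
      induction k with
      | zero => rfl
      | succ k ih => rw [pow_succ, pow_succ, ← ih]; rfl
    rw [← this, hgd]; rfl
  have key : ∀ (s : Multiset K) (N : ℕ),
      (f ^ 2 - 1) ^ N * aeval f ((s.map fun a => X - C a).prod) = 0 → ∃ M, (f ^ 2 - 1) ^ M = 0 := by
    intro s
    induction s using Multiset.induction_on with
    | empty => intro N h; exact ⟨N, by simpa using h⟩
    | cons b t iht =>
      intro N h
      rw [Multiset.map_cons, Multiset.prod_cons, map_mul, ← mul_assoc] at h
      have hpoly : (f ^ 2 - 1) ^ N = aeval f ((X ^ 2 - 1 : K[X]) ^ N) := by simp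
      have hcomm : ∀ r : K[X], (f ^ 2 - 1) ^ N * aeval f r = aeval f r * (f ^ 2 - 1) ^ N := fun r => by
        rw [hpoly, ← map_mul, ← map_mul, mul_comm]
      rw [hcomm, mul_assoc] at h
      by_cases hb : b * b = 1
      · refine iht (N + 1) ?_
        have e : f ^ 2 - 1 = aeval f (X + C b) * aeval f (X - C b) := by
          rw [← map_mul, show (X + C b) * (X - C b) = X ^ 2 - C (b * b) by rw [map_mul]; ring, hb]
          simp
        have e2 : (f ^ 2 - 1) ^ (N + 1) * aeval f ((t.map fun a => X - C a).prod) = aeval f (X + C b) *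
            (aeval f (X - C b) * ((f ^ 2 - 1) ^ N * aeval f ((t.map fun a => X - C a).prod))) := by
          rw [pow_succ']; nth_rewrite 1 [e]; simp only [mul_assoc]
        rw [e2, h, mul_zero]
      · refine iht N ?_
        generalize (f ^ 2 - 1) ^ N * aeval f ((t.map fun a => X - C a).prod) = A at h ⊢
        refine LinearMap.ext fun v => ?_
        have h0 := LinearMap.congr_fun h v
        rw [Module.End.mul_apply, LinearMap.zero_apply] at h0
        rw [LinearMap.zero_apply]
        generalize A v = w at h0 ⊢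
        have hw : g w = b • w := by
          simpa [sub_eq_zero, Algebra.algebraMap_eq_smul_one, hf] using h0
        by_contra hne
        have hq0 : q w ≠ 0 := fun h0 => hne (hq w h0)
        have := hg w
        rw [hw, QuadraticMap.map_smul, smul_eq_mul] at this
        exact hb (mul_right_cancel₀ hq0 (by linear_combination this))
  obtain ⟨N, hN⟩ := key (X ^ d - C 1 : K[X]).roots 0 (by
    have hs : (X ^ d - C 1 : K[X]).Splits := by simpa using hK d hd
    rw [← hs.eq_prod_roots_of_monic (monic_X_pow_sub_C 1 hd.ne')]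
    simp [hfd])
  refine unipotent_isometry q hq h2 (g ^ 2) (fun x => by
    rw [pow_two, LinearEquiv.mul_apply, hg, hg]) N ?_
  rw [← hN]; congr 2

theorem card_le_two_pow [FiniteDimensional K V] (h2 : (2 : K) ≠ 0)
    (G : Subgroup (V ≃ₗ[K] V)) (hsq : ∀ g ∈ G, g ^ 2 = 1) :
    Finite G ∧ Nat.card G ≤ 2 ^ Module.finrank K V := by
  induction hn : Module.finrank K V using Nat.strong_induction_on generalizing V with
  | _ n ih =>
    have hcomm : ∀ g ∈ G, ∀ h ∈ G, ∀ v, g (h v) = h (g v) := by
      intro g hg h hh v
      have e := hsq (g * h) (G.mul_mem hg hh)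
      have e1 : ∀ x ∈ G, x⁻¹ = x := fun x hx => inv_eq_of_mul_eq_one_right (by rw [← pow_two, hsq x hx])
      have : g * h = h * g := by
        rw [← e1 _ (G.mul_mem hg hh), mul_inv_rev, e1 g hg, e1 h hh]
      exact LinearEquiv.congr_fun this v
    by_cases hsc : ∀ g ∈ G, g = 1 ∨ ∀ v, g v = -v
    · classical
      have hinj : Function.Injective (fun g : G => decide ((g : V ≃ₗ[K] V) = 1)) := by
        intro g h e
        simp only [decide_eq_decide] at e
        by_cases hg1 : (g : V ≃ₗ[K] V) = 1
        · exact Subtype.ext (hg1.trans (e.1 hg1).symm)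
        · have a := (hsc g g.2).resolve_left hg1
          have b := (hsc h h.2).resolve_left fun h1 => hg1 (e.2 h1)
          exact Subtype.ext (LinearEquiv.ext fun v => (a v).trans (b v).symm)
      refine ⟨Finite.of_injective _ hinj, ?_⟩
      rcases Nat.eq_zero_or_pos n with h0 | h0
      · have : Subsingleton V := Module.finrank_zero_iff.1 (hn.trans h0)
        have : Subsingleton G := ⟨fun a b => Subtype.ext (LinearEquiv.ext fun v => Subsingleton.elim _ _)⟩
        rw [Nat.card_eq_one_iff_unique.2 ⟨this, ⟨1⟩⟩]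
        exact Nat.one_le_two_pow
      · refine (Nat.card_le_card_of_injective _ hinj).trans ?_
        rw [Nat.card_eq_fintype_card, Fintype.card_bool]
        exact Nat.le_self_pow h0.ne' 2
    · push Not at hsc
      obtain ⟨g, hgG, hg1, u, hu⟩ := hsc
      let P : Submodule K V := LinearMap.ker ((g : Module.End K V) - 1)
      let M : Submodule K V := LinearMap.ker ((g : Module.End K V) + 1)
      have hP : ∀ v, v ∈ P ↔ g v = v := fun v => by simp [P, sub_eq_zero]
      have hM : ∀ v, v ∈ M ↔ g v = -v := fun v => by simp [M, eq_neg_iff_add_eq_zero]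
      have hgg : ∀ v, g (g v) = v := fun v => by
        have := LinearEquiv.congr_fun (hsq g hgG) v; rwa [pow_two] at this
      have hdec : ∀ v, ∃ p ∈ P, ∃ m ∈ M, p + m = v := fun v => by
        refine ⟨(2 : K)⁻¹ • (v + g v), (hP _).2 ?_, (2 : K)⁻¹ • (v - g v), (hM _).2 ?_, ?_⟩
        · simp [hgg, add_comm]
        · rw [map_smul, map_sub, hgg, ← smul_neg, neg_sub]
        · rw [← smul_add, add_add_sub_cancel, ← two_smul K v, smul_smul, inv_mul_cancel₀ h2, one_smul]
      have hdisj : Disjoint P M := by
        rw [Submodule.disjoint_def]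
        intro v h h'
        have h3 : v = -v := ((hP v).1 h).symm.trans ((hM v).1 h')
        have : (2 : K) • v = 0 := by rw [two_smul]; nth_rewrite 2 [h3]; exact add_neg_cancel v
        exact (smul_eq_zero.1 this).resolve_left h2
      have hsum : Module.finrank K P + Module.finrank K M ≤ n := by
        rw [← hn, ← Submodule.finrank_sup_add_finrank_inf_eq, disjoint_iff.1 hdisj, finrank_bot, add_zero]
        exact Submodule.finrank_le _
      have hPlt : Module.finrank K P < n := by
        rw [← hn]; apply Submodule.finrank_lt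
        intro htop
        exact hg1 (LinearEquiv.ext fun v => (hP v).1 (htop ▸ trivial))
      have hMlt : Module.finrank K M < n := by
        rw [← hn]; apply Submodule.finrank_lt
        intro htop
        exact hu ((hM u).1 (htop ▸ trivial))
      have hres : ∀ (W : Submodule K V), (∀ h ∈ G, ∀ v ∈ W, h v ∈ W) →
          ∃ φ : G →* (W ≃ₗ[K] W), ∀ (h : G) (v : W), ((φ h v : W) : V) = (h : V ≃ₗ[K] V) v := by
        intro W hW
        refine ⟨MonoidHom.mk' (fun h => LinearEquiv.ofLinearMap
          (((h : V ≃ₗ[K] V) : V →ₗ[K] V).restrict (hW h h.2))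
          (((h : V ≃ₗ[K] V) : V →ₗ[K] V).restrict (hW h h.2)) ?_ ?_) ?_, fun h v => rfl⟩
        · ext v; have := LinearEquiv.congr_fun (hsq h h.2) (v : V); rw [pow_two] at this; exact this
        · ext v; have := LinearEquiv.congr_fun (hsq h h.2) (v : V); rw [pow_two] at this; exact this
        · intro a b; ext v; rfl
      obtain ⟨φ, hφ⟩ := hres P fun h hh v hv => (hP _).2 (by rw [hcomm g hgG h hh, (hP v).1 hv])
      obtain ⟨ψ, hψ⟩ := hres M fun h hh v hv => (hM _).2 (by rw [hcomm g hgG h hh, (hM v).1 hv, map_neg])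
      have hinj : Function.Injective (fun h : G => ((⟨φ h, h, rfl⟩ : φ.range), (⟨ψ h, h, rfl⟩ : ψ.range))) := by
        intro a b e
        have e1 : φ a = φ b := congrArg (fun x => x.1.1) e
        have e2 : ψ a = ψ b := congrArg (fun x => x.2.1) e
        refine Subtype.ext (LinearEquiv.ext fun v => ?_)
        obtain ⟨p, hp, m, hm, rfl⟩ := hdec v
        rw [map_add, map_add, ← hφ a ⟨p, hp⟩, ← hφ b ⟨p, hp⟩, e1, ← hψ a ⟨m, hm⟩, ← hψ b ⟨m, hm⟩, e2]
      obtain ⟨hf1, hc1⟩ := ih _ hPlt φ.range (by rintro _ ⟨h, rfl⟩; rw [← map_pow, show h ^ 2 = 1 from Subtype.ext (hsq h h.2), map_one]) rfl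
      obtain ⟨hf2, hc2⟩ := ih _ hMlt ψ.range (by rintro _ ⟨h, rfl⟩; rw [← map_pow, show h ^ 2 = 1 from Subtype.ext (hsq h h.2), map_one]) rfl
      refine ⟨Finite.of_injective _ hinj, ?_⟩
      calc Nat.card G ≤ Nat.card (φ.range × ψ.range) := Nat.card_le_card_of_injective _ hinj
        _ ≤ 2 ^ Module.finrank K P * 2 ^ Module.finrank K M := by rw [Nat.card_prod]; gcongr
        _ ≤ 2 ^ n := by rw [← pow_add]; exact Nat.pow_le_pow_right (by norm_num) hsum

end Groth.Agent.BddFinLib
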