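import Mathlib

set_option autoImplicit false
open Polynomial

namespace Groth.Agent.BddFinLib

variable {K : Type*} [Field K] {A : Type*} [DivisionRing A] [Algebra K A] [FiniteDimensional K A]

theorem finrank_dvd_of_subalgebra (B : Subalgebra K A) : Module.finrank K B ∣ Module.finrank K A := by
  haveI : FiniteDimensional K B := FiniteDimensional.finiteDimensional_submodule (Subalgebra.toSubmodule B)
  letI : DivisionRing B := divisionRingOfFiniteDimensional K B
  exact ⟨Module.finrank B A, (Module.finrank_mul_finrank K B A).symm⟩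

theorem finrank_adjoin_eq_natDegree (x : A) :
    Module.finrank K (Algebra.adjoin K {x}) = (minpoly K x).natDegree := by
  have hx : IsIntegral K x := IsIntegral.of_finite K x
  have h := Polynomial.natDegree_eq_zero_iff_degree_le_zero (p := minpoly K x)
  let f : AdjoinRoot (minpoly K x) →ₐ[K] A :=
    Ideal.Quotient.liftₐ _ (Polynomial.aeval x) fun p hp => by
      obtain ⟨q, rfl⟩ := Ideal.mem_span_singleton.1 hp
      simp
  haveI := Fact.mk (minpoly.irreducible hx)
  have hinj : Function.Injective f := f.toRingHom.injective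
  have hrange : f.range = Algebra.adjoin K {x} := by
    rw [Algebra.adjoin_singleton_eq_range_aeval]
    apply le_antisymm
    · rintro _ ⟨y, rfl⟩
      obtain ⟨q, rfl⟩ := Ideal.Quotient.mk_surjective y
      exact ⟨q, rfl⟩
    · rintro _ ⟨q, rfl⟩
      exact ⟨AdjoinRoot.mk _ q, rfl⟩
  rw [← hrange, ← ((AlgEquiv.ofInjective f hinj).toLinearEquiv).finrank_eq,
    (AdjoinRoot.powerBasis (minpoly.ne_zero hx)).finrank, AdjoinRoot.powerBasis_dim]

theorem commute_of_adjoin {x a b : A} (ha : a ∈ Algebra.adjoin K {x}) (hb : b ∈ Algebra.adjoin K {x}) :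
    Commute a b := by
  rw [Algebra.adjoin_singleton_eq_range_aeval] at ha hb
  obtain ⟨p, rfl⟩ := ha
  obtain ⟨q, rfl⟩ := hb
  exact (Commute.all p q).map (Polynomial.aeval x)

variable [Algebra.IsCentral K A]

theorem mem_range_of_central {x : A} (h : ∀ a, a * x = x * a) : x ∈ (algebraMap K A).range := by
  have : x ∈ Subalgebra.center K A := Subalgebra.mem_center_iff.2 h
  rw [Algebra.IsCentral.center_eq_bot] at this
  exact Algebra.mem_bot.1 this

theorem exists_not_commute {x : A} (hx : x ∉ (algebraMap K A).range) : ∃ a, a * x ≠ x * a := by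
  by_contra h
  push Not at h
  exact hx (mem_range_of_central h)

variable {p : ℕ} [Fact p.Prime] (hA : Module.finrank K A = p ^ 2)
include hA

theorem natDegree_eq {x : A} (hx : x ∉ (algebraMap K A).range) : (minpoly K x).natDegree = p := by
  have hp := (Fact.out : p.Prime)
  have h1 := finrank_dvd_of_subalgebra (Algebra.adjoin K {x})
  rw [finrank_adjoin_eq_natDegree, hA, Nat.dvd_prime_pow hp] at h1
  obtain ⟨i, hi, hdeg⟩ := h1
  interval_cases i
  · exact absurd (minpoly.natDegree_eq_one_iff.1 (by simpa using hdeg)) hx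
  · simpa using hdeg
  · exfalso
    obtain ⟨a, ha⟩ := exists_not_commute hx
    haveI : FiniteDimensional K (Algebra.adjoin K ({x} : Set A)) :=
      FiniteDimensional.finiteDimensional_submodule (Subalgebra.toSubmodule (Algebra.adjoin K ({x} : Set A)))
    have htop : Subalgebra.toSubmodule (Algebra.adjoin K ({x} : Set A)) = ⊤ :=
      Submodule.eq_top_of_finrank_eq (by rw [Subalgebra.finrank_toSubmodule, finrank_adjoin_eq_natDegree, hdeg, hA])
    have hmem : ∀ z : A, z ∈ Algebra.adjoin K {x} := fun z => by
      rw [← Subalgebra.mem_toSubmodule, htop]; trivial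
    exact ha (commute_of_adjoin (hmem a) (hmem x)).eq

theorem centralizer_le {x : A} (hx : x ∉ (algebraMap K A).range) {a : A} (h : a * x = x * a) :
    a ∈ Algebra.adjoin K {x} := by
  have hp := (Fact.out : p.Prime)
  set C := Subalgebra.centralizer K ({x} : Set A)
  haveI : FiniteDimensional K C := FiniteDimensional.finiteDimensional_submodule (Subalgebra.toSubmodule C)
  have hle : Algebra.adjoin K {x} ≤ C := Algebra.adjoin_le fun y hy => by
    rw [Set.mem_singleton_iff.1 hy]; exact Subalgebra.mem_centralizer_iff K |>.2 fun z hz => by rw [Set.mem_singleton_iff.1 hz]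
  have hC : a ∈ C := Subalgebra.mem_centralizer_iff K |>.2 fun z hz => by rw [Set.mem_singleton_iff.1 hz]; exact h.symm
  have h1 := finrank_dvd_of_subalgebra C
  have h2 : Module.finrank K (Algebra.adjoin K ({x} : Set A)) ≤ Module.finrank K C :=
    by
      rw [← Subalgebra.finrank_toSubmodule, ← Subalgebra.finrank_toSubmodule (S := C)]
      exact Submodule.finrank_mono hle
  rw [finrank_adjoin_eq_natDegree, natDegree_eq hA hx] at h2
  rw [hA, Nat.dvd_prime_pow hp] at h1
  obtain ⟨i, hi, hdeg⟩ := h1
  interval_cases i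
  · rw [hdeg] at h2; simp at h2; exact absurd h2 (not_le.2 hp.one_lt)
  · have := Submodule.eq_of_le_of_finrank_eq
      (S₁ := Subalgebra.toSubmodule (Algebra.adjoin K ({x} : Set A))) (S₂ := Subalgebra.toSubmodule C) hle
      (by rw [Subalgebra.finrank_toSubmodule, Subalgebra.finrank_toSubmodule, finrank_adjoin_eq_natDegree,
        natDegree_eq hA hx, hdeg, pow_one])
    rw [← Subalgebra.mem_toSubmodule, this]; exact hC
  · exfalso
    obtain ⟨b, hb⟩ := exists_not_commute hx
    have htop : Subalgebra.toSubmodule C = ⊤ :=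
      Submodule.eq_top_of_finrank_eq (by rw [Subalgebra.finrank_toSubmodule, hdeg, hA])
    have : b ∈ C := by rw [← Subalgebra.mem_toSubmodule, htop]; trivial
    exact hb ((Subalgebra.mem_centralizer_iff K).1 this x rfl).symm

theorem adjoin_pair_eq_top {x y : A} (h : x * y ≠ y * x) : Algebra.adjoin K {x, y} = ⊤ := by
  have hp := (Fact.out : p.Prime)
  have hx : x ∉ (algebraMap K A).range := by
    rintro ⟨c, rfl⟩; exact h (Algebra.commutes c y)
  set B := Algebra.adjoin K ({x, y} : Set A)
  haveI : FiniteDimensional K B := FiniteDimensional.finiteDimensional_submodule (Subalgebra.toSubmodule B)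
  have hle : Algebra.adjoin K {x} ≤ B := Algebra.adjoin_mono (by simp)
  have h1 := finrank_dvd_of_subalgebra B
  have h2 : Module.finrank K (Algebra.adjoin K ({x} : Set A)) ≤ Module.finrank K B :=
    by
      rw [← Subalgebra.finrank_toSubmodule, ← Subalgebra.finrank_toSubmodule (S := B)]
      exact Submodule.finrank_mono hle
  rw [finrank_adjoin_eq_natDegree, natDegree_eq hA hx] at h2
  rw [hA, Nat.dvd_prime_pow hp] at h1
  obtain ⟨i, hi, hdeg⟩ := h1
  interval_cases i
  · rw [hdeg] at h2; simp at h2; exact absurd h2 (not_le.2 hp.one_lt)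
  · have := Submodule.eq_of_le_of_finrank_eq
      (S₁ := Subalgebra.toSubmodule (Algebra.adjoin K ({x} : Set A))) (S₂ := Subalgebra.toSubmodule B) hle
      (by rw [Subalgebra.finrank_toSubmodule, Subalgebra.finrank_toSubmodule, finrank_adjoin_eq_natDegree,
        natDegree_eq hA hx, hdeg, pow_one])
    have hy : y ∈ Algebra.adjoin K {x} := by
      rw [← Subalgebra.mem_toSubmodule, this]; exact Algebra.subset_adjoin (by simp)
    exact absurd (commute_of_adjoin (Algebra.subset_adjoin rfl) hy).eq h
  · exact Algebra.toSubmodule_eq_top.1 (Submodule.eq_top_of_finrank_eq (by rw [Subalgebra.finrank_toSubmodule, hdeg, hA]))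

/-- an element commuting with two non-commuting elements is a scalar -/
theorem mem_range_of_commute_pair {x y z : A} (h : x * y ≠ y * x) (hx : z * x = x * z) (hy : z * y = y * z) :
    z ∈ (algebraMap K A).range := by
  refine mem_range_of_central fun a => ?_
  have hle : Algebra.adjoin K {x, y} ≤ Subalgebra.centralizer K ({z} : Set A) := Algebra.adjoin_le fun w hw =>
    (Subalgebra.mem_centralizer_iff K).2 fun u hu => by
      rw [Set.mem_singleton_iff.1 hu]
      rcases hw with rfl | rfl <;> assumption
  rw [adjoin_pair_eq_top hA h] at hle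
  exact ((Subalgebra.mem_centralizer_iff K).1 (hle (Algebra.mem_top (x := a))) z rfl).symm

variable [CharP K p]

omit hA [Algebra.IsCentral K A] in
theorem not_isSeparable_of_pow {u : A} (hu : u ^ p ∈ (algebraMap K A).range)
    (hu' : u ∉ (algebraMap K A).range) : ¬ IsSeparable K u := by
  intro hs
  haveI : ExpChar K p := ExpChar.prime Fact.out
  obtain ⟨c, hc⟩ := hu
  have hdvd : minpoly K u ∣ X ^ p - C c := minpoly.dvd _ _ (by simp [hc])
  obtain ⟨d, hd⟩ := IsAlgClosed.exists_pow_nat_eq (algebraMap K (AlgebraicClosure K) c) (Fact.out : p.Prime).pos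
  have h1 := Polynomial.map_dvd (algebraMap K (AlgebraicClosure K)) hdvd
  rw [Polynomial.map_sub, Polynomial.map_pow, map_X, map_C, ← hd, map_pow, ← sub_pow_expChar] at h1
  obtain ⟨i, -, hi⟩ := (dvd_prime_pow (Polynomial.prime_X_sub_C d) _).1 h1
  have hsep : ((minpoly K u).map (algebraMap K (AlgebraicClosure K))).Separable := Polynomial.Separable.map hs
  have hsq := (Associated.squarefree_iff hi).1 hsep.squarefree
  have hle : i ≤ 1 := by
    by_contra h
    have := hsq (X - C d) (by rw [← pow_two]; exact pow_dvd_pow _ (by omega))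
    exact (Polynomial.prime_X_sub_C d).not_unit this
  have hdeg := Polynomial.degree_eq_degree_of_associated hi
  rw [degree_map, degree_pow, degree_X_sub_C, nsmul_one] at hdeg
  have h3 : (minpoly K u).natDegree ≤ 1 := by
    have := natDegree_eq_of_degree_eq_some hdeg; omega
  have hpos := minpoly.natDegree_pos (IsIntegral.of_finite K u)
  exact hu' (minpoly.natDegree_eq_one_iff.1 (by omega))

omit hA in
theorem ad_pow_char (z : A) :
    (LinearMap.mulLeft K z - LinearMap.mulRight K z) ^ p = LinearMap.mulLeft K (z ^ p) - LinearMap.mulRight K (z ^ p) := by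
  haveI : ExpChar (Module.End K A) p := expChar_of_injective_algebraMap (algebraMap K (Module.End K A)).injective p
  rw [sub_pow_expChar_of_commute p (LinearMap.commute_mulLeft_right z z), LinearMap.pow_mulLeft, LinearMap.pow_mulRight]

/-- (3) ⇒ (1): an Artin–Schreier element gives an inseparable element. -/
theorem exists_inseparable_of_AS {z : A} (hz : z ∉ (algebraMap K A).range)
    (hzp : z ^ p - z ∈ (algebraMap K A).range) : ∃ u : A, ¬ IsSeparable K u := by
  have hp := (Fact.out : p.Prime)
  haveI : ExpChar K p := ExpChar.prime hp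
  set D : Module.End K A := LinearMap.mulLeft K z - LinearMap.mulRight K z with hD
  have hDp : D ^ p = D := by
    rw [hD, ad_pow_char]
    obtain ⟨c, hc⟩ := hzp
    rw [eq_sub_iff_add_eq] at hc
    ext a
    simp only [LinearMap.sub_apply, LinearMap.mulLeft_apply, LinearMap.mulRight_apply]
    rw [← hc, add_mul, mul_add, Algebra.commutes c a]; abel
  obtain ⟨a, ha⟩ := exists_not_commute hz
  set v := D a
  have hv : v ≠ 0 := fun h => ha (by
    simp only [v, hD, LinearMap.sub_apply, LinearMap.mulLeft_apply, LinearMap.mulRight_apply, sub_eq_zero] at h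
    exact h.symm)
  have hkill : aeval D (X ^ (p - 1) - 1 : K[X]) v = 0 := by
    simp only [map_sub, map_pow, aeval_X, map_one, LinearMap.sub_apply, Module.End.one_apply, v]
    rw [← Module.End.mul_apply, ← pow_succ, Nat.sub_add_cancel hp.pos, hDp, sub_self]
  -- roots in the prime field
  have hsplit : (X ^ (p - 1) - 1 : K[X]).Splits ∧ ∀ i ∈ (X ^ (p - 1) - 1 : K[X]).roots, i ≠ 0 ∧ i ^ p = i := by
    constructor
    · have h1 : (X ^ p - X : (ZMod p)[X]).Splits := by
        have := FiniteField.splits_X_pow_card_sub_X (K := ZMod p) p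
        simpa using this
      have h2 : (X ^ (p - 1) - 1 : (ZMod p)[X]).Splits := by
        refine Polynomial.Splits.of_dvd h1 (FiniteField.X_pow_card_sub_X_ne_zero _ hp.one_lt) ⟨X, ?_⟩
        rw [sub_mul, one_mul, ← pow_succ, Nat.sub_add_cancel hp.pos]
      have := h2.map (ZMod.castHom (dvd_refl p) K)
      simpa using this
    · intro i hi
      have h := isRoot_of_mem_roots hi
      simp [sub_eq_zero] at h
      refine ⟨fun h0 => ?_, ?_⟩
      · rw [h0, zero_pow (by have := hp.two_le; omega)] at h; exact zero_ne_one h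
      · rw [← Nat.sub_add_cancel hp.pos, pow_succ, h, one_mul]
  obtain ⟨hs, hroots⟩ := hsplit
  have hmon : (X ^ (p - 1) - 1 : K[X]).Monic := by
    simpa using monic_X_pow_sub_C (1 : K) (by have := hp.two_le; omega : p - 1 ≠ 0)
  rw [hs.eq_prod_roots_of_monic hmon] at hkill
  have hev : ∀ (s : Multiset K) (w : A), w ≠ 0 → aeval D ((s.map fun i => X - C i).prod) w = 0 →
      ∃ i ∈ s, ∃ u : A, u ≠ 0 ∧ D u = i • u := by
    intro s
    induction s using Multiset.induction_on with
    | empty => intro w hw h; simp at h; exact absurd h hw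
    | cons i s ih =>
      intro w hw h
      rw [Multiset.map_cons, Multiset.prod_cons, map_mul, Module.End.mul_apply] at h
      by_cases h0 : aeval D ((s.map fun i => X - C i).prod) w = 0
      · obtain ⟨j, hj, u, hu⟩ := ih w hw h0
        exact ⟨j, Multiset.mem_cons_of_mem hj, u, hu⟩
      · exact ⟨i, Multiset.mem_cons_self _ _, _, h0, by simpa [sub_eq_zero, Algebra.algebraMap_eq_smul_one] using h⟩
  obtain ⟨i, hi, u, hu0, hu⟩ := hev _ v hv hkill
  obtain ⟨hi0, hip⟩ := hroots i hi
  simp only [hD, LinearMap.sub_apply, LinearMap.mulLeft_apply, LinearMap.mulRight_apply] at hu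
  have hcomm : ∀ k : ℕ, z * u ^ k - u ^ k * z = (k : K) • (i • u ^ k) := by
    intro k
    induction k with
    | zero => simp
    | succ k ih =>
      calc z * u ^ (k + 1) - u ^ (k + 1) * z = (z * u ^ k - u ^ k * z) * u + u ^ k * (z * u - u * z) := by
            rw [pow_succ]; noncomm_ring
        _ = _ := by rw [ih, hu, smul_mul_assoc, smul_mul_assoc, ← pow_succ, mul_smul_comm, ← pow_succ, Nat.cast_succ, add_smul, one_smul]
  have hne : z * u ≠ u * z := by
    intro h; rw [h, sub_self, eq_comm, smul_eq_zero] at hu; tauto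
  have hup : z * u ^ p = u ^ p * z := by
    have := hcomm p; rwa [CharP.cast_eq_zero, zero_smul, sub_eq_zero] at this
  refine ⟨u, not_isSeparable_of_pow (mem_range_of_commute_pair hA hne hup.symm (by rw [← pow_succ, ← pow_succ'])) ?_⟩
  rintro ⟨c, rfl⟩
  exact hne (Algebra.commutes c z).symm

end Groth.Agent.BddFinLib
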