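import Mathlib
import Groth.Agent.BddFinLib.DegreeP

set_option autoImplicit false
open Polynomial

namespace Groth.Agent.BddFinLib

theorem exists_AS_generator {K L : Type*} [Field K] [Field L] [Algebra K L] [IsGalois K L]
    [FiniteDimensional K L] (p : ℕ) [Fact p.Prime] [CharP K p] (hdeg : Module.finrank K L = p) :
    ∃ z : L, z ^ p - z ∈ (algebraMap K L).range ∧ z ∉ (algebraMap K L).range := by
  haveI : CharP L p := charP_of_injective_algebraMap (algebraMap K L).injective p
  have hcard : Nat.card (L ≃ₐ[K] L) = p := by rw [IsGalois.card_aut_eq_finrank, hdeg]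
  haveI : IsCyclic (L ≃ₐ[K] L) := isCyclic_of_prime_card hcard
  let e : Multiplicative (ZMod p) ≃* (L ≃ₐ[K] L) :=
    (AddEquiv.toMultiplicative (ZMod.ringEquivCongr hcard.symm).toAddEquiv).trans (zmodCyclicMulEquiv inferInstance)
  let a : (L ≃ₐ[K] L) → L := fun σ => ((((e.symm σ).toAdd : ZMod p)).val : L)
  have ha : ∀ σ τ, a (σ * τ) = a σ + a τ := fun σ τ => by
    simp only [a, map_mul, toAdd_mul, ZMod.natCast_val, ZMod.cast_add (n := p) (R := L) dvd_rfl]
  obtain ⟨t, ht⟩ := Algebra.trace_surjective K L 1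
  let z : L := -∑ τ : L ≃ₐ[K] L, a τ * τ t
  have hsum : ∑ τ : (L ≃ₐ[K] L), τ t = 1 := by rw [← trace_eq_sum_automorphisms, ht, map_one]
  have hz : ∀ σ : L ≃ₐ[K] L, σ z = z + a σ := by
    intro σ
    simp only [z, map_neg, map_sum, map_mul]
    have : ∀ τ, σ (a τ) * σ (τ t) = a (σ * τ) * (σ * τ) t - a σ * (σ * τ) t := by
      intro τ
      rw [ha, show σ (a τ) = a τ from map_natCast σ _]
      simp [AlgEquiv.mul_apply]; ring
    simp only [this, Finset.sum_sub_distrib, ← Finset.mul_sum]
    rw [Fintype.sum_equiv (Equiv.mulLeft σ) (fun x => a (σ * x) * (σ * x) t) (fun τ => a τ * τ t) (fun _ => rfl),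
      Fintype.sum_equiv (Equiv.mulLeft σ) (fun x => (σ * x) t) (fun τ => τ t) (fun _ => rfl), hsum]
    ring
  refine ⟨z, ?_, ?_⟩
  · rw [RingHom.mem_range, ← Set.mem_range, IsGalois.mem_range_algebraMap_iff_fixed]
    intro σ
    rw [map_sub, map_pow, hz, add_pow_char]
    have : a σ ^ p = a σ := by
      simp only [a, ← Nat.cast_pow]
      rw [CharP.natCast_eq_natCast L p, ← ZMod.natCast_eq_natCast_iff]
      simp
    rw [this]; ring
  · rintro ⟨c, hc⟩
    have h := hz (e (Multiplicative.ofAdd 1))
    rw [← hc, AlgEquiv.commutes, left_eq_add] at h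
    simp [a, ZMod.val_one] at h

variable {K : Type*} [Field K] {A : Type*} [DivisionRing A] [Algebra K A] [FiniteDimensional K A]
  [Algebra.IsCentral K A] {p : ℕ} [Fact p.Prime] [CharP K p]

theorem exists_inseparable_of_galois (hA : Module.finrank K A = p ^ 2) {L : Type*} [Field L] [Algebra K L]
    [IsGalois K L] (hL : Module.finrank K L = p) (ι : L →ₐ[K] A) : ∃ v : A, ¬ IsSeparable K v := by
  haveI : FiniteDimensional K L := Module.finite_of_finrank_pos (hL ▸ (Fact.out : p.Prime).pos)
  obtain ⟨z, ⟨c, hc⟩, hz⟩ := exists_AS_generator p hL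
  refine exists_inseparable_of_AS hA (z := ι z) ?_ ⟨c, by rw [← map_pow, ← map_sub, ← hc, AlgHom.commutes]⟩
  rintro ⟨d, hd⟩
  exact hz ⟨d, ι.toRingHom.injective (by simpa using hd)⟩

theorem exists_pair_of_inseparable (hA : Module.finrank K A = p ^ 2) {v : A} (hv : ¬ IsSeparable K v) :
    ∃ u : A, v ^ p ∈ (algebraMap K A).range ∧ u ^ p ∈ (algebraMap K A).range ∧ v * u - u * v = 1 ∧
      Algebra.adjoin K {v, u} = ⊤ := by
  classical
  have hp := (Fact.out : p.Prime)
  haveI : ExpChar K p := ExpChar.prime hp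
  have hint : IsIntegral K v := IsIntegral.of_finite K v
  have hvK : v ∉ (algebraMap K A).range := by rintro ⟨c, rfl⟩; exact hv (isSeparable_algebraMap c)
  have hdeg := natDegree_eq hA hvK
  have hirr := minpoly.irreducible hint
  have hder : derivative (minpoly K v) = 0 := by
    by_contra h; exact hv ((Polynomial.separable_iff_derivative_ne_zero hirr).2 h)
  obtain ⟨c, hvp⟩ : v ^ p ∈ (algebraMap K A).range := by
    have hexp : Polynomial.expand K p (contract p (minpoly K v)) = minpoly K v := expand_contract p hder hp.ne_zero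
    have hcd : (contract p (minpoly K v)).natDegree = 1 := by
      have := congrArg natDegree hexp
      rw [natDegree_expand, hdeg] at this
      exact (Nat.mul_eq_right hp.ne_zero).1 this
    have hmon : (contract p (minpoly K v)).Monic := by
      have := congrArg leadingCoeff hexp
      rwa [leadingCoeff_expand hp.pos, (minpoly.monic hint).leadingCoeff] at this
    have h := minpoly.aeval K v
    rw [← hexp, expand_aeval] at h
    rw [eq_X_add_C_of_natDegree_le_one (le_of_eq hcd), show (contract p (minpoly K v)).coeff 1 = 1 by rw [← hcd]; exact hmon] at h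
    simp at h
    exact ⟨-(contract p (minpoly K v)).coeff 0, by rw [map_neg]; exact (eq_neg_of_add_eq_zero_left h).symm⟩
  set D : Module.End K A := LinearMap.mulLeft K v - LinearMap.mulRight K v with hD
  have hDp : D ^ p = 0 := by
    rw [hD, ad_pow_char]; ext a
    simp [← hvp, Algebra.commutes c a]
  obtain ⟨a, ha⟩ := exists_not_commute hvK
  have hex : ∃ n, (D ^ n) a = 0 := ⟨p, by rw [hDp]; rfl⟩
  obtain ⟨m, hm⟩ : ∃ m, Nat.find hex = m + 2 := by
    refine ⟨Nat.find hex - 2, ?_⟩
    have h0 : Nat.find hex ≠ 0 := fun h => by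
      have := Nat.find_spec hex; rw [h] at this; simp at this; simp [this] at ha
    have h1 : Nat.find hex ≠ 1 := fun h => by
      have := Nat.find_spec hex; rw [h] at this; simp [hD, sub_eq_zero] at this; exact ha this.symm
    omega
  set w := (D ^ m) a
  have hs0 : D w ≠ 0 := by
    rw [← Module.End.mul_apply, ← pow_succ']; exact Nat.find_min hex (by omega)
  have hs1 : D (D w) = 0 := by
    rw [← Module.End.mul_apply, ← Module.End.mul_apply, ← pow_two, ← pow_add, add_comm, ← hm]; exact Nat.find_spec hex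
  set s := D w with hs
  have hvs : v * s = s * v := by simpa [hD, sub_eq_zero] using hs1
  have hvsi : v * s⁻¹ = s⁻¹ * v := (Commute.inv_right₀ hvs).eq
  refine ⟨w * s⁻¹, ⟨c, hvp⟩, ?_, ?_, ?_⟩
  all_goals
    have h1 : v * (w * s⁻¹) - w * s⁻¹ * v = 1 := by
      have : v * (w * s⁻¹) - w * s⁻¹ * v = (v * w - w * v) * s⁻¹ := by rw [mul_assoc w, ← hvsi]; noncomm_ring
      rw [this, show v * w - w * v = s from rfl, mul_inv_cancel₀ hs0]
    have hne : v * (w * s⁻¹) ≠ w * s⁻¹ * v := fun h => by rw [h, sub_self] at h1; exact zero_ne_one h1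
  · have hc2 : (w * s⁻¹) ^ p * v = v * (w * s⁻¹) ^ p := by
      have hk : ∀ k : ℕ, v * (w * s⁻¹) ^ k - (w * s⁻¹) ^ k * v = (k : A) * (w * s⁻¹) ^ (k - 1) := by
        intro k
        induction k with
        | zero => simp
        | succ k ih =>
          calc v * (w * s⁻¹) ^ (k + 1) - (w * s⁻¹) ^ (k + 1) * v
              = (v * (w * s⁻¹) ^ k - (w * s⁻¹) ^ k * v) * (w * s⁻¹) + (w * s⁻¹) ^ k * (v * (w * s⁻¹) - w * s⁻¹ * v) := by
                rw [pow_succ]; noncomm_ring
            _ = _ := by
                rw [ih, h1, mul_one]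
                rcases k with _ | k
                · simp
                · rw [Nat.add_sub_cancel, Nat.add_sub_cancel, mul_assoc, ← pow_succ]; push_cast; rw [add_mul (((k : A) + 1)), one_mul]
      have hp0 : (p : A) = 0 := by
        haveI : CharP A p := charP_of_injective_algebraMap (algebraMap K A).injective p
        exact CharP.cast_eq_zero A p
      have := hk p
      rw [hp0, zero_mul, sub_eq_zero] at this
      exact this.symm
    exact mem_range_of_commute_pair hA hne hc2 (by rw [← pow_succ, ← pow_succ'])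
  · exact h1
  · exact adjoin_pair_eq_top hA hne

end Groth.Agent.BddFinLib
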