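import Mathlib
import Groth.Agent.BddFinLib.DegreePCriteria

set_option autoImplicit false
open Polynomial
universe v

namespace Groth.Agent.BddFinLib

variable {K : Type*} [Field K]

/-- the subfield generated by one element of a division algebra, as a Galois extension -/
theorem exists_galois_of_splits {A : Type v} [DivisionRing A] [Algebra K A] [FiniteDimensional K A] (x : A)
    (f : K[X]) (hf0 : f ≠ 0) (hfx : aeval x f = 0) (hsep : f.Separable)
    (hsplit : ∀ (L : Type v) [Field L] [Algebra K L] (ι : L →ₐ[K] A) (y : L),
      ι y = x → (f.map (algebraMap K L)).Splits) :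
    ∃ (L : Type v) (_ : Field L) (_ : Algebra K L), IsGalois K L ∧
      Module.finrank K L = (minpoly K x).natDegree ∧ Nonempty (L →ₐ[K] A) := by
  classical
  set S := Algebra.adjoin K ({x} : Set A) with hS
  haveI : FiniteDimensional K S := FiniteDimensional.finiteDimensional_submodule (Subalgebra.toSubmodule S)
  letI : DivisionRing S := divisionRingOfFiniteDimensional K S
  letI : Field S :=
    { (inferInstance : DivisionRing S) with mul_comm := fun a b => Subtype.ext (commute_of_adjoin a.2 b.2).eq }
  refine ⟨S, inferInstance, inferInstance, ?_, finrank_adjoin_eq_natDegree x, ⟨S.val⟩⟩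
  let y : S := ⟨x, Algebra.subset_adjoin rfl⟩
  haveI : IsSplittingField K S f := by
    refine ⟨hsplit S S.val y rfl, ?_⟩
    rw [eq_top_iff]
    rintro ⟨z, hz⟩ -
    have hy : y ∈ f.rootSet S := by
      rw [mem_rootSet_of_ne hf0]
      exact Subtype.ext ((aeval_algHom_apply S.val y f).symm.trans hfx)
    obtain ⟨q, rfl⟩ : ∃ q : K[X], aeval x q = z := by
      have h := hz; rw [hS, Algebra.adjoin_singleton_eq_range_aeval] at h; exact h
    rw [show (⟨aeval x q, hz⟩ : S) = aeval y q from Subtype.ext (aeval_algHom_apply S.val y q)]
    exact Algebra.adjoin_mono (Set.singleton_subset_iff.2 hy) (aeval_mem_adjoin_singleton K y)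
  exact IsGalois.of_separable_splitting_field hsep

variable {A : Type v} [DivisionRing A] [Algebra K A] [FiniteDimensional K A]
  [Algebra.IsCentral K A] {p : ℕ} [Fact p.Prime] [CharP K p]

theorem exists_galois_subfield_of_pair (hA : Module.finrank K A = p ^ 2) {v u : A}
    (hv : v ^ p ∈ (algebraMap K A).range) (hu : u ^ p ∈ (algebraMap K A).range) (h : v * u - u * v = 1) :
    ∃ (L : Type v) (_ : Field L) (_ : Algebra K L), IsGalois K L ∧ Module.finrank K L = p ∧
      Nonempty (L →ₐ[K] A) := by
  have hp := (Fact.out : p.Prime)
  haveI : CharP A p := charP_of_injective_algebraMap (algebraMap K A).injective p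
  have hne : v * u ≠ u * v := fun e => by rw [e, sub_self] at h; exact zero_ne_one h
  set z := v * u with hz
  have hzu : z * u - u * z = u := by
    calc z * u - u * z = (v * u - u * v) * u := by rw [hz]; noncomm_ring
      _ = u := by rw [h, one_mul]
  have hzv : z * v - v * z = -v := by
    calc z * v - v * z = -(v * (v * u - u * v)) := by rw [hz]; noncomm_ring
      _ = -v := by rw [h, mul_one]
  have hzK : z ∉ (algebraMap K A).range := by
    rintro ⟨c, hc⟩
    rw [← hc, Algebra.commutes c u, sub_self] at hzu
    rw [hz, ← hzu] at h; simp only [mul_zero, zero_mul, sub_zero] at h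
    exact zero_ne_one h
  set D : Module.End K A := LinearMap.mulLeft K z - LinearMap.mulRight K z with hD
  have hfix : ∀ (w : A) (ε : K), ε ^ p = ε → D w = ε • w → (z ^ p - z) * w = w * (z ^ p - z) := by
    intro w ε hε hw
    have hk : ∀ k : ℕ, (D ^ k) w = ε ^ k • w := fun k => by
      induction k with
      | zero => simp
      | succ k ih => rw [pow_succ', Module.End.mul_apply, ih, map_smul, hw, smul_smul, pow_succ]
    have h1 : (LinearMap.mulLeft K (z ^ p) - LinearMap.mulRight K (z ^ p) : Module.End K A) w = D w := by
      rw [← ad_pow_char, ← hD, hk p, hε, hw]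
    simp only [hD, LinearMap.sub_apply, LinearMap.mulLeft_apply, LinearMap.mulRight_apply] at h1
    rw [sub_mul, mul_sub, sub_eq_sub_iff_sub_eq_sub]
    exact h1
  have hD1 : D u = (1 : K) • u := by simp [hD, hzu]
  have hD2 : D v = (-1 : K) • v := by simp [hD, hzv]
  obtain ⟨c, hc⟩ : z ^ p - z ∈ (algebraMap K A).range := by
    haveI : ExpChar K p := ExpChar.prime hp
    refine mem_range_of_commute_pair hA hne (hfix v (-1) ?_ hD2) (hfix u 1 (one_pow p) hD1)
    exact (show (-1 : K) ^ p = -1 by haveI : ExpChar K p := ExpChar.prime hp; rw [← frobenius_def, map_neg, map_one])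
  set f : K[X] := X ^ p - X - C c with hf
  have hfdeg : f.natDegree = p := by
    rw [hf, natDegree_sub_C, natDegree_sub_eq_left_of_natDegree_lt] <;> simp [hp.one_lt]
  have hf0 : f ≠ 0 := fun h => by rw [h, natDegree_zero] at hfdeg; exact hp.ne_zero hfdeg.symm
  have hder : derivative f = -1 := by simp [hf, derivative_sub, derivative_X_pow]
  have hsep : f.Separable := by
    rw [separable_def, hder]; exact isCoprime_one_right.neg_right
  obtain ⟨L, hF, hA', hG, hd, hι⟩ := exists_galois_of_splits z f hf0 (by simp [hf, ← hc]) hsep (fun L _ _ ι y hy => by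
    haveI : CharP L p := charP_of_injective_algebraMap (algebraMap K L).injective p
    haveI : ExpChar L p := ExpChar.prime hp
    have h1 : (X ^ p - X : (ZMod p)[X]).Splits := by
      simpa using FiniteField.splits_X_pow_card_sub_X (K := ZMod p) p
    have h2 : (X ^ p - X : L[X]).Splits := by simpa using h1.map (ZMod.castHom (dvd_refl p) L)
    have h3 := h2.comp_of_natDegree_le_one (g := X - C y) (by simp)
    have hyp : y ^ p - y = algebraMap K L c := ι.toRingHom.injective (by simp [hy, hc])
    convert h3 using 1
    simp only [hf, Polynomial.map_sub, Polynomial.map_pow, map_X, map_C, sub_comp, pow_comp, X_comp,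
      sub_pow_expChar, ← hyp, map_sub, map_pow]
    ring)
  exact ⟨L, hF, hA', hG, hd.trans (natDegree_eq hA hzK), hι⟩

theorem exists_inseparable_of_galois_adjoin (hA : Module.finrank K A = p ^ 2) (a : A)
    (ha : a ∉ (algebraMap K A).range) (hs : IsSeparable K a)
    (hsplit : ∀ (L : Type v) [Field L] [Algebra K L] (ι : L →ₐ[K] A) (y : L),
      ι y = a → ((minpoly K a).map (algebraMap K L)).Splits) :
    ∃ v : A, ¬ IsSeparable K v := by
  have hint := IsIntegral.of_finite K a
  obtain ⟨L, hF, hA', hG, hd, ⟨ι⟩⟩ :=
    exists_galois_of_splits a _ (minpoly.ne_zero hint) (minpoly.aeval K a) hs hsplit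
  exact exists_inseparable_of_galois hA (hd.trans (natDegree_eq hA ha)) ι

/-- Wedderburn: in degree 2 or 3 there is an inseparable element. -/
theorem exists_inseparable_two_three (hA : Module.finrank K A = p ^ 2) (hp23 : p = 2 ∨ p = 3) :
    ∃ v : A, ¬ IsSeparable K v := by
  have hp := (Fact.out : p.Prime)
  by_contra hcon
  push Not at hcon
  obtain ⟨a, ha⟩ : ∃ a : A, a ∉ (algebraMap K A).range := by
    by_contra h
    push Not at h
    have h2 := LinearMap.finrank_range_add_finrank_ker (Algebra.linearMap K A)
    have hsurj : Function.Surjective (Algebra.linearMap K A) := fun z => RingHom.mem_range.1 (h z)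
    rw [LinearMap.range_eq_top.2 hsurj, finrank_top, hA, Module.finrank_self] at h2
    have := Nat.one_lt_pow (n := 2) (by norm_num) hp.one_lt
    omega
  have hint := IsIntegral.of_finite K a
  have hdeg := natDegree_eq hA ha
  rcases hp23 with rfl | rfl
  · obtain ⟨v, hv⟩ := exists_inseparable_of_galois_adjoin hA a ha (hcon a) fun L _ _ ι y hy => by
      refine Splits.of_natDegree_eq_two (by rw [natDegree_map, hdeg]) (x := y) ?_
      rw [eval_map_algebraMap]
      exact ι.toRingHom.injective (by rw [AlgHom.toRingHom_eq_coe, RingHom.coe_coe, ← aeval_algHom_apply, hy, minpoly.aeval, map_zero])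
    exact hv (hcon v)
  · set f := minpoly K a with hf
    set s := -f.coeff 2
    set q := f.coeff 1
    set n := -f.coeff 0
    have hform : ∀ y : A, aeval y f = y ^ 3 - s • y ^ 2 + q • y - algebraMap K A n := by
      intro y
      rw [aeval_eq_sum_range, hdeg]
      simp only [Finset.sum_range_succ, Finset.sum_range_zero, zero_add, pow_zero, pow_one, s, q, n]
      rw [show f.coeff 3 = 1 by rw [← hdeg]; exact minpoly.monic hint, one_smul, neg_smul, Algebra.algebraMap_eq_smul_one, neg_smul]
      abel
    obtain ⟨x, hx⟩ := exists_not_commute ha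
    have hx0 : x ≠ 0 := fun h => hx (by simp [h])
    set d := x * a * x⁻¹
    have hda : d - a ≠ 0 := fun h => hx (by
      have := sub_eq_zero.1 h; conv_rhs => rw [← this]
      simp [d, mul_assoc, hx0])
    have hd3 : d ^ 3 - s • d ^ 2 + q • d - algebraMap K A n = 0 := by
      have e := hform a
      rw [hf, minpoly.aeval] at e
      have h1 : ∀ k : ℕ, d ^ k = x * a ^ k * x⁻¹ := fun k => by
        induction k with
        | zero => simp [hx0]
        | succ k ih => rw [pow_succ, ih, pow_succ]; simp [d, mul_assoc, hx0]
      rw [h1 2, h1 3]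
      calc _ = x * (a ^ 3 - s • a ^ 2 + q • a - algebraMap K A n) * x⁻¹ := by
            simp only [d, mul_sub, mul_add, sub_mul, add_mul, mul_smul_comm, smul_mul_assoc]
            rw [← Algebra.commutes n x, mul_assoc _ x, mul_inv_cancel₀ hx0, mul_one]
        _ = 0 := by rw [← e, mul_zero, zero_mul]
    have ha3 : a ^ 3 - s • a ^ 2 + q • a - algebraMap K A n = 0 := by rw [← hform, hf, minpoly.aeval]
    set e := d - a with he
    set b := e * d * e⁻¹
    set S := algebraMap K A s with hS
    set Q := algebraMap K A q with hQ
    have cS : ∀ y : A, y * S = S * y := fun y => (Algebra.commutes s y).symm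
    have cS' : ∀ y z : A, y * (S * z) = S * (y * z) := fun y z => by rw [← mul_assoc, cS, mul_assoc]
    have cQ : ∀ y : A, y * Q = Q * y := fun y => (Algebra.commutes q y).symm
    simp only [Algebra.smul_def, ← hS, ← hQ] at hd3 ha3
    -- `b` is a root of the quadratic cofactor
    have hbF : b * b + (a - S) * b + (a * a - S * a + Q) = 0 := by
      refine mul_right_cancel₀ hda ?_
      rw [zero_mul]
      have e1 : b * e = e * d := by simp [b, mul_assoc, hda]
      calc (b * b + (a - S) * b + (a * a - S * a + Q)) * e
          = b * (b * e) + (a - S) * (b * e) + (a * a - S * a + Q) * e := by noncomm_ring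
        _ = e * d * d + (a - S) * (e * d) + (a * a - S * a + Q) * e := by
            rw [e1, ← mul_assoc b, e1]
        _ = (d ^ 3 - S * d ^ 2 + Q * d - algebraMap K A n)
            - (a ^ 3 - S * a ^ 2 + Q * a - algebraMap K A n) := by
            simp only [he, pow_succ, pow_zero, one_mul, sub_mul, mul_sub, add_mul, mul_add, mul_assoc, cS, cS']
            abel
        _ = 0 := by rw [hd3, ha3, sub_zero]
    have hQe : Q = S * a + S * b - a * a - a * b - b * b := by
      rw [← sub_eq_zero, ← hbF]; noncomm_ring
    have ea : (S * b - a * b - b * b) * a = a * (S * b - a * b - b * b) := by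
      have h1 := cQ a
      rw [hQe] at h1
      rw [← sub_eq_zero] at h1 ⊢
      rw [← neg_eq_zero, ← h1]
      simp only [sub_mul, mul_sub, add_mul, mul_add, mul_assoc, cS, cS']
      abel
    have eb : (S * a - a * a - a * b) * b = b * (S * a - a * a - a * b) := by
      have h1 := cQ b
      rw [hQe] at h1
      rw [← sub_eq_zero] at h1 ⊢
      rw [← neg_eq_zero, ← h1]
      simp only [sub_mul, mul_sub, add_mul, mul_add, mul_assoc, cS, cS']
      abel
    by_cases hab : a * b = b * a
    · -- Galois case
      obtain ⟨v, hv⟩ := exists_inseparable_of_galois_adjoin hA a ha (hcon a) fun L _ _ ι y hy => by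
        have hbmem := centralizer_le hA ha hab.symm
        rw [Algebra.adjoin_singleton_eq_range_aeval] at hbmem
        obtain ⟨g, hg⟩ := hbmem
        replace hg : aeval a g = b := hg
        have hyb : ι (aeval y g) = b := by rw [← aeval_algHom_apply, hy, hg]
        set z := aeval y g
        have hz : z * z + (y - algebraMap K L s) * z + (y * y - algebraMap K L s * y + algebraMap K L q) = 0 :=
          ι.toRingHom.injective (by simpa [hyb, hy] using hbF)
        have hyr : y ^ 3 - algebraMap K L s * y ^ 2 + algebraMap K L q * y - algebraMap K L n = 0 :=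
          ι.toRingHom.injective (by simpa [hy] using ha3)
        have hfac : (f.map (algebraMap K L)) = (X - C y) * ((X - C z) * (X - C (algebraMap K L s - y - z))) := by
          have hfe : f = X ^ 3 - C s * X ^ 2 + C q * X - C n := by
            conv_lhs => rw [f.as_sum_range_C_mul_X_pow]
            rw [hdeg]
            simp only [Finset.sum_range_succ, Finset.sum_range_zero, zero_add, pow_zero, pow_one, mul_one, s, q, n, map_neg]
            rw [show f.coeff 3 = 1 by rw [← hdeg]; exact minpoly.monic hint, map_one, one_mul]
            ring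
          have hq : algebraMap K L q = algebraMap K L s * y + algebraMap K L s * z - y * y - y * z - z * z := by
            linear_combination hz
          have hn : algebraMap K L n = y * z * (algebraMap K L s - y - z) := by
            linear_combination -hyr + y * hq
          rw [hfe]
          simp only [Polynomial.map_sub, Polynomial.map_add, Polynomial.map_mul, Polynomial.map_pow, map_X, map_C, hq, hn,
            map_sub, map_add, map_mul]
          ring
        rw [hfac]
        exact (Splits.X_sub_C _).mul ((Splits.X_sub_C _).mul (Splits.X_sub_C _))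
      exact hv (hcon v)
    · set h := a * b - b * a with hh
      have hne0 : h ≠ 0 := sub_ne_zero.2 hab
      have hha : h * a = b * h := by
        have : ((S * b - a * b - b * b) * a - a * (S * b - a * b - b * b))
            + ((S * a - a * a - a * b) * b - b * (S * a - a * a - a * b)) = 0 := by rw [ea, eb]; simp
        rw [← sub_eq_zero, ← neg_eq_zero, ← this, hh]
        simp only [sub_mul, mul_sub, add_mul, mul_add, mul_assoc, cS, cS']
        abel
      have hhb : h * b = (S - a - b) * h := by
        have e2 : h * b - (S - a - b) * h = -((S * a - a * a - a * b) * b - b * (S * a - a * a - a * b))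
            - (h * a - b * h) := by
          rw [hh]
          simp only [sub_mul, mul_sub, add_mul, mul_add, mul_assoc, cS, cS']
          abel
        rw [eb, hha, sub_self, sub_self, neg_zero, sub_zero, sub_eq_zero] at e2
        exact e2
      have hhc : h * (S - a - b) = a * h := by
        rw [mul_sub, mul_sub, hha, hhb, cS h]; noncomm_ring
      have hca : h ^ 3 * a = a * h ^ 3 := by
        calc h ^ 3 * a = h * (h * (h * a)) := by noncomm_ring
          _ = h * ((h * b) * h) := by rw [hha]; noncomm_ring
          _ = (h * (S - a - b)) * (h * h) := by rw [hhb]; noncomm_ring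
          _ = a * h ^ 3 := by rw [hhc]; noncomm_ring
      have hcb : h ^ 3 * b = b * h ^ 3 := by
        calc h ^ 3 * b = h * (h * (h * b)) := by noncomm_ring
          _ = h * ((h * (S - a - b)) * h) := by rw [hhb]; noncomm_ring
          _ = (h * a) * (h * h) := by rw [hhc]; noncomm_ring
          _ = b * h ^ 3 := by rw [hha]; noncomm_ring
      refine not_isSeparable_of_pow (mem_range_of_commute_pair hA hab hca hcb) ?_ (hcon h)
      rintro ⟨c, hc⟩
      apply hab
      have : b = a := mul_right_cancel₀ hne0 (by rw [← hha, ← hc, Algebra.commutes])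
      rw [this]

end Groth.Agent.BddFinLib
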