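import Mathlib

set_option autoImplicit false

namespace Groth.Agent.BddFinLib
open Matrix

/-- Minkowski: a matrix `1 + 3^k A` of finite prime order `q` with `k ≥ 1` forces `3 ∣ A`. -/
theorem minkowski_step {n : ℕ} (A : Matrix (Fin n) (Fin n) ℤ) (k q : ℕ) (hk : 1 ≤ k)
    (hq : q.Prime) (h : (1 + (3 ^ k : ℤ) • A) ^ q = 1) :
    ∃ B : Matrix (Fin n) (Fin n) ℤ, A = (3 : ℤ) • B := by
  suffices hs : ∀ i j, (3 : ℤ) ∣ A i j by
    choose B hB using hs
    exact ⟨Matrix.of B, Matrix.ext fun i j => by simp [hB i j]⟩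
  intro i j
  set c : ℤ := 3 ^ k with hc
  have hc0 : c ≠ 0 := pow_ne_zero _ (by norm_num)
  by_cases h3 : q = 3
  · subst h3
    have e : (1 + c • A) ^ 3 = 1 + (3 * c) • A + (3 * c * c) • (A * A) + (c * c * c) • (A * A * A) := by
      simp only [pow_succ, pow_zero, one_mul, add_mul, mul_add, mul_one, Matrix.smul_mul,
        Matrix.mul_smul, smul_smul, smul_add, add_smul]
      module
    rw [e] at h
    have h' := congrFun (congrFun h i) j
    simp only [Matrix.add_apply, Matrix.smul_apply, smul_eq_mul] at h'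
    obtain ⟨k', rfl⟩ : ∃ k', k = k' + 1 := ⟨k - 1, by omega⟩
    have : c * (3 * (A i j + 3 ^ (k' + 1) * (A * A) i j + 3 ^ k' * 3 ^ (k' + 1) * (A * A * A) i j)) = 0 := by
      have hcc : c = 3 ^ k' * 3 := by rw [hc, pow_succ]
      rw [hcc] at h' ⊢
      rw [pow_succ]
      linear_combination h'
    simp only [mul_eq_zero, hc0, false_or, show (3 : ℤ) ≠ 0 by norm_num] at this
    exact ⟨-(3 ^ k' * (A * A) i j + 3 ^ k' * 3 ^ k' * (A * A * A) i j), by
      rw [pow_succ] at this; linear_combination this⟩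
  · obtain ⟨R, hR⟩ : ∃ R : Matrix (Fin n) (Fin n) ℤ,
        (1 + c • A) ^ q = 1 + ((q : ℤ) * c) • A + (c * c) • R := by
      clear hq h h3
      induction q with
      | zero => exact ⟨0, by simp⟩
      | succ m ih =>
        obtain ⟨R, hR⟩ := ih
        refine ⟨(m : ℤ) • (A * A) + R + c • (R * A), ?_⟩
        rw [pow_succ, hR]
        simp only [add_mul, mul_add, mul_one, one_mul, Matrix.smul_mul, Matrix.mul_smul, smul_smul,
          smul_add, Nat.cast_add, Nat.cast_one]
        module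
    rw [hR] at h
    have h' := congrFun (congrFun h i) j
    simp only [Matrix.add_apply, Matrix.smul_apply, smul_eq_mul] at h'
    have : c * ((q : ℤ) * A i j + c * R i j) = 0 := by linear_combination h'
    simp only [mul_eq_zero, hc0, false_or] at this
    have hd : (3 : ℤ) ∣ (q : ℤ) * A i j := by
      rw [eq_neg_of_add_eq_zero_left this, dvd_neg, hc]
      exact dvd_mul_of_dvd_left (dvd_pow_self _ (by omega)) _
    refine (Int.Prime.dvd_mul' (p := 3) Nat.prime_three hd).resolve_left fun h3' => h3 ?_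
    exact ((Nat.prime_dvd_prime_iff_eq Nat.prime_three hq).1 (by exact_mod_cast h3')).symm

theorem eq_one_of_congr_three {n : ℕ} (g : Matrix (Fin n) (Fin n) ℤ) (m : ℕ) (hm : 0 < m)
    (hg : g ^ m = 1) (A : Matrix (Fin n) (Fin n) ℤ) (hA : g = 1 + (3 : ℤ) • A) : g = 1 := by
  induction m using Nat.strong_induction_on generalizing g A with
  | _ m ih =>
    by_cases h1 : m = 1
    · simpa [h1] using hg
    have hqp : m.minFac.Prime := Nat.minFac_prime h1
    obtain ⟨m', hm'⟩ := Nat.minFac_dvd m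
    set q := m.minFac
    obtain ⟨A', hA'⟩ : ∃ A', g ^ q = 1 + (3 : ℤ) • A' := by
      subst hA
      clear_value q
      clear hm' hqp
      induction q with
      | zero => exact ⟨0, by simp⟩
      | succ t iht =>
        obtain ⟨A', hA'⟩ := iht
        refine ⟨A + A' + (3 : ℤ) • (A' * A), ?_⟩
        rw [pow_succ, hA']
        simp only [add_mul, mul_add, mul_one, one_mul, Matrix.smul_mul, Matrix.mul_smul, smul_smul, smul_add]
        module
    have hm'pos : 0 < m' := Nat.pos_of_ne_zero fun h => by rw [h, mul_zero] at hm'; omega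
    have hlt : m' < m := by
      rw [hm']; exact lt_mul_left hm'pos hqp.one_lt
    have hgq : g ^ q = 1 := ih m' hlt (g ^ q) hm'pos (by rw [← pow_mul, ← hm', hg]) A' hA'
    suffices ∀ k : ℕ, ∃ B : Matrix (Fin n) (Fin n) ℤ, g = 1 + (3 ^ (k + 1) : ℤ) • B by
      ext i j
      have hdvd : ∀ k : ℕ, ((3 : ℤ) ^ (k + 1)) ∣ (g - 1) i j := fun k => by
        obtain ⟨B, hB⟩ := this k; exact ⟨B i j, by rw [hB, add_sub_cancel_left, Matrix.smul_apply, smul_eq_mul]⟩
      have : (g - 1) i j = 0 := by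
        by_contra hne
        have h1 : ((3 : ℤ) ^ ((g - 1) i j).natAbs).natAbs ≤ ((g - 1) i j).natAbs :=
          Nat.le_of_dvd (Int.natAbs_pos.2 hne)
            (Int.natAbs_dvd_natAbs.2 ((pow_dvd_pow _ (Nat.le_succ _)).trans (hdvd _)))
        rw [Int.natAbs_pow] at h1
        exact absurd h1 (not_le.2 (Nat.lt_pow_self (by norm_num)))
      simpa [Matrix.sub_apply, sub_eq_zero] using this
    intro k
    induction k with
    | zero => exact ⟨A, by simpa using hA⟩
    | succ k ihk =>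
      obtain ⟨B, hB⟩ := ihk
      obtain ⟨C, hC⟩ := minkowski_step B (k + 1) q (by omega) hqp (by rw [← hB]; exact hgq)
      exact ⟨C, by rw [hB, hC, smul_smul, ← pow_succ]⟩

/-- A finite subgroup of `GL_n(ℤ)` embeds in `GL_n(ℤ/3)`. -/
theorem map_three_injective {n : ℕ} (H : Subgroup (GL (Fin n) ℤ)) [Finite H] :
    Function.Injective ((Matrix.GeneralLinearGroup.map (n := Fin n) (Int.castRingHom (ZMod 3))).comp H.subtype) := by
  rw [injective_iff_map_eq_one]
  intro g hg
  have hfin : IsOfFinOrder g := isOfFinOrder_of_finite g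
  have h1 : ∀ i j, (3 : ℤ) ∣ Units.val g.1 i j - (1 : Matrix (Fin n) (Fin n) ℤ) i j := by
    intro i j
    have h2 : ((Matrix.GeneralLinearGroup.map (n := Fin n) (Int.castRingHom (ZMod 3)) g.1) :
        Matrix (Fin n) (Fin n) (ZMod 3)) i j = (1 : Matrix (Fin n) (Fin n) (ZMod 3)) i j := by
      rw [show Matrix.GeneralLinearGroup.map (n := Fin n) (Int.castRingHom (ZMod 3)) g.1 = 1 from hg]
      rfl
    have := h2
    refine (ZMod.intCast_eq_intCast_iff_dvd_sub _ _ 3).1 ?_
    simpa [Matrix.one_apply, apply_ite] using this.symm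
  choose A hA using h1
  have := eq_one_of_congr_three _ (orderOf g) hfin.orderOf_pos
    (show (Units.val g.1) ^ orderOf g = 1 by
      rw [← Units.val_pow_eq_pow_val, ← Subgroup.coe_pow, pow_orderOf_eq_one]; rfl)
    (Matrix.of A) (by ext i j; simp only [Matrix.add_apply, Matrix.smul_apply, Matrix.of_apply, smul_eq_mul]; linarith [hA i j])
  exact Subtype.ext (Units.ext this)

/-- elements of finite order in `GL₂(ℤ)`: trace bound, and trace zero if `det = -1` -/
theorem two_by_two {g : Matrix (Fin 2) (Fin 2) ℤ} {m : ℕ} (hm : 0 < m) (hg : g ^ m = 1) :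
    (g.det = 1 ∨ g.det = -1) ∧ |g.trace| ≤ 2 ∧ (g.det = -1 → g.trace = 0) := by
  have hdet : g.det = 1 ∨ g.det = -1 := Int.isUnit_iff.1 <|
    IsUnit.of_pow_eq_one (by rw [← Matrix.det_pow, hg, Matrix.det_one]) hm.ne'
  set gc : Matrix (Fin 2) (Fin 2) ℂ := g.map (Int.castRingHom ℂ) with hgc
  obtain ⟨z, hz⟩ := IsAlgClosed.exists_root gc.charpoly (by
    rw [Matrix.charpoly_degree_eq_dim]; simp)
  have hz' : (z • (1 : Matrix (Fin 2) (Fin 2) ℂ) - gc).det = 0 := by
    rw [Matrix.smul_one_eq_diagonal, ← Matrix.scalar_apply, ← Matrix.eval_charpoly]; exact hz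
  obtain ⟨v, hv0, hv⟩ := (Matrix.exists_mulVec_eq_zero_iff.2 hz')
  rw [Matrix.sub_mulVec, sub_eq_zero, Matrix.smul_mulVec, Matrix.one_mulVec] at hv
  have hgcm : gc ^ m = 1 := by
    have := congrArg (Int.castRingHom ℂ).mapMatrix hg
    rw [map_pow, map_one] at this
    exact this
  have hpow : ∀ t : ℕ, (gc ^ t) *ᵥ v = z ^ t • v := by
    intro t
    induction t with
    | zero => simp
    | succ t ih => rw [pow_succ, ← Matrix.mulVec_mulVec, ← hv, Matrix.mulVec_smul, ih, smul_smul, pow_succ, mul_comm]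
  have hzm : z ^ m = 1 := by
    have h1 := hpow m
    rw [hgcm, Matrix.one_mulVec] at h1
    obtain ⟨i, hi⟩ := Function.ne_iff.1 hv0
    have := congrFun h1 i
    simp only [Pi.smul_apply, smul_eq_mul] at this
    simp only [Pi.zero_apply] at hi
    exact mul_right_cancel₀ hi (by rw [one_mul]; exact this.symm)
  have hnorm : ‖z‖ = 1 := Complex.norm_eq_one_of_pow_eq_one hzm hm.ne'
  have hchar : z * z - (g.trace : ℂ) * z + (g.det : ℂ) = 0 := by
    have h2 := hz
    rw [Polynomial.IsRoot, Matrix.charpoly_fin_two] at h2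
    simp only [hgc, Matrix.trace_fin_two, Matrix.det_fin_two, Matrix.map_apply, Polynomial.eval_add,
      Polynomial.eval_sub, Polynomial.eval_mul, Polynomial.eval_C, Polynomial.eval_X,
      Polynomial.eval_pow, eq_intCast] at h2
    simp only [Matrix.trace_fin_two, Matrix.det_fin_two, Int.cast_add, Int.cast_sub, Int.cast_mul]
    linear_combination h2
  have hn : z.re * z.re + z.im * z.im = 1 := by
    have := Complex.normSq_eq_norm_sq z
    rw [hnorm, Complex.normSq_apply] at this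
    simpa using this
  have hzz : z * (starRingEnd ℂ) z = 1 := by rw [Complex.mul_conj, Complex.normSq_eq_norm_sq, hnorm]; simp
  have ht : (g.trace : ℂ) = z + (g.det : ℂ) * (starRingEnd ℂ) z := by
    linear_combination (-(starRingEnd ℂ) z) * hchar + (z - (g.trace : ℂ)) * hzz
  have hre := congrArg Complex.re ht
  simp at hre
  refine ⟨hdet, ?_, fun h => ?_⟩
  · have : |(g.trace : ℝ)| ≤ 2 := by
      rw [abs_le]
      rcases hdet with h | h <;> rw [h] at hre <;> push_cast at hre <;>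
        constructor <;> nlinarith [sq_nonneg z.im, sq_nonneg (z.re - 1), sq_nonneg (z.re + 1)]
    exact_mod_cast this
  · rw [h] at hre; push_cast at hre
    have : (g.trace : ℝ) = 0 := by linarith
    exact_mod_cast this

theorem det_sub_one_fin_two (g : Matrix (Fin 2) (Fin 2) ℤ) :
    (g - 1).det = g.det - g.trace + 1 := by
  simp [Matrix.det_fin_two, Matrix.trace_fin_two]; ring

theorem eq_one_of_trace_two {g : Matrix (Fin 2) (Fin 2) ℤ} {m : ℕ} (hm : 0 < m) (hg : g ^ m = 1)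
    (hd : g.det = 1) (ht : g.trace = 2) : g = 1 := by
  have hN : (g - 1) * (g - 1) = 0 := by
    rw [Matrix.det_fin_two] at hd; rw [Matrix.trace_fin_two] at ht
    ext i j
    fin_cases i <;> fin_cases j <;> simp [Matrix.mul_apply, Fin.sum_univ_two] <;>
      grind
  have : ∀ t : ℕ, g ^ t = 1 + (t : ℤ) • (g - 1) := by
    intro t
    induction t with
    | zero => simp
    | succ t ih =>
      rw [pow_succ, ih]
      calc (1 + (t : ℤ) • (g - 1)) * g = (1 + (t : ℤ) • (g - 1)) * (1 + (g - 1)) := by rw [add_sub_cancel]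
        _ = _ := by
          simp only [add_mul, mul_add, one_mul, mul_one, Matrix.smul_mul, hN, smul_zero, Nat.cast_add, Nat.cast_one]
          module
  have h := this m
  rw [hg, left_eq_add] at h
  exact sub_eq_zero.1 ((smul_eq_zero.1 h).resolve_left (by exact_mod_cast hm.ne'))

theorem exists_common_fixed (Γ : Subgroup (GL (Fin 2) ℤ)) [Finite Γ]
    (h : ∀ γ ∈ Γ, ∃ v : Fin 2 → ℤ, v ≠ 0 ∧ (γ : Matrix (Fin 2) (Fin 2) ℤ) *ᵥ v = v) :
    ∃ v : Fin 2 → ℤ, v ≠ 0 ∧ ∀ γ ∈ Γ, (γ : Matrix (Fin 2) (Fin 2) ℤ) *ᵥ v = v := by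
  have hfin : ∀ γ ∈ Γ, ∃ m, 0 < m ∧ ((γ : GL (Fin 2) ℤ) : Matrix (Fin 2) (Fin 2) ℤ) ^ m = 1 := by
    intro γ hγ
    refine ⟨orderOf (⟨γ, hγ⟩ : Γ), orderOf_pos _, ?_⟩
    rw [← Units.val_pow_eq_pow_val, ← Units.val_one]
    exact congrArg Units.val (congrArg Subtype.val (pow_orderOf_eq_one (⟨γ, hγ⟩ : Γ)))
  have hone : ∀ γ ∈ Γ, ((γ : GL (Fin 2) ℤ) : Matrix (Fin 2) (Fin 2) ℤ).det = 1 → γ = 1 := by
    intro γ hγ hd
    obtain ⟨m, hm, hpow⟩ := hfin γ hγ
    obtain ⟨v, hv0, hv⟩ := h γ hγ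
    have : ((γ : Matrix (Fin 2) (Fin 2) ℤ) - 1).det = 0 :=
      Matrix.exists_mulVec_eq_zero_iff.1 ⟨v, hv0, by rw [Matrix.sub_mulVec, hv, Matrix.one_mulVec, sub_self]⟩
    rw [det_sub_one_fin_two, hd] at this
    exact Units.ext (eq_one_of_trace_two hm hpow hd (by omega))
  by_cases hall : ∀ γ ∈ Γ, ((γ : GL (Fin 2) ℤ) : Matrix (Fin 2) (Fin 2) ℤ).det = 1
  · refine ⟨![1, 0], by intro e; simpa using congrFun e 0, fun γ hγ => ?_⟩
    rw [hone γ hγ (hall γ hγ)]; simp
  · push Not at hall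
    obtain ⟨σ, hσ, hσd⟩ := hall
    have hneg : ∀ γ ∈ Γ, ((γ : GL (Fin 2) ℤ) : Matrix (Fin 2) (Fin 2) ℤ).det ≠ 1 →
        ((γ : GL (Fin 2) ℤ) : Matrix (Fin 2) (Fin 2) ℤ).det = -1 := by
      intro γ hγ hne
      obtain ⟨m, hm, hpow⟩ := hfin γ hγ
      exact (two_by_two hm hpow).1.resolve_left hne
    obtain ⟨v, hv0, hv⟩ := h σ hσ
    refine ⟨v, hv0, fun γ hγ => ?_⟩
    by_cases hd : ((γ : GL (Fin 2) ℤ) : Matrix (Fin 2) (Fin 2) ℤ).det = 1
    · rw [hone γ hγ hd]; simp
    · have : γ * σ = 1 := hone _ (Γ.mul_mem hγ hσ) (by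
        rw [Units.val_mul, Matrix.det_mul, hneg γ hγ hd, hneg σ hσ hσd]; norm_num)
      have h2 : σ * σ = 1 := hone _ (Γ.mul_mem hσ hσ) (by
        rw [Units.val_mul, Matrix.det_mul, hneg σ hσ hσd]; norm_num)
      have : γ = σ := mul_right_cancel (this.trans h2.symm)
      rw [this]; exact hv

end Groth.Agent.BddFinLib
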