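import Mathlib
import Groth.Agent.CSA.RedCharpoly

set_option autoImplicit false
open Polynomial TensorProduct
universe u v

namespace Groth.Agent.BddFinLib

variable {K : Type u} [Field K]

/-- all irreducible monic factors of `X^m - c` are `X^r - a` with the same `r` -/
theorem factor_shape {m : ℕ} (hm : 0 < m) (hroots : (X ^ m - 1 : K[X]).Splits) (c : K) (hc : c ≠ 0)
    {g : K[X]} (hg : Irreducible g) (hmon : g.Monic) (hdvd : g ∣ X ^ m - C c) :
    (∃ a, g = X ^ g.natDegree - C a) ∧
      ∀ g' : K[X], Irreducible g' → g'.Monic → g' ∣ X ^ m - C c → g'.natDegree = g.natDegree := by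
  classical
  haveI := Fact.mk hg
  set L := AdjoinRoot g
  set θ := AdjoinRoot.root g
  have hθ : θ ^ m = algebraMap K L c := by
    have h := aeval_eq_zero_of_dvd_aeval_eq_zero hdvd (show aeval θ g = 0 by simp [θ, AdjoinRoot.aeval_eq])
    simp [sub_eq_zero] at h
    exact h
  have hθ0 : θ ≠ 0 := fun h => by rw [h, zero_pow hm.ne', eq_comm, map_eq_zero] at hθ; exact hc hθ
  set s := (X ^ m - 1 : K[X]).roots
  have hmonm : (X ^ m - 1 : K[X]).Monic := by simpa using monic_X_pow_sub_C (1 : K) hm.ne'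
  have hcard : Multiset.card s = m := by
    rw [← hroots.natDegree_eq_card_roots, ← C_1, natDegree_X_pow_sub_C]
  have hsplit : (X ^ m - C c : K[X]).map (algebraMap K L) =
      (s.map fun ζ => X - C (algebraMap K L ζ * θ)).prod := by
    have h1 := congrArg (fun P : K[X] => (P.map (algebraMap K L)).comp (C θ⁻¹ * X))
      (hroots.eq_prod_roots_of_monic hmonm)
    simp only [Polynomial.map_sub, Polynomial.map_pow, map_X, Polynomial.map_one, sub_comp, pow_comp, X_comp,
      one_comp, Polynomial.map_multiset_prod, Multiset.map_map, multiset_prod_comp, Function.comp_def, map_C,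
      C_comp] at h1
    calc (X ^ m - C c : K[X]).map (algebraMap K L) = C (θ ^ m) * ((C θ⁻¹ * X) ^ m - 1) := by
          rw [Polynomial.map_sub, Polynomial.map_pow, map_X, map_C, ← hθ, mul_sub, mul_one, mul_pow, ← mul_assoc,
            ← map_pow, ← map_mul, inv_pow, mul_inv_cancel₀ (pow_ne_zero _ hθ0), map_one, one_mul]
      _ = (s.map fun ζ => C θ * (C θ⁻¹ * X - C (algebraMap K L ζ))).prod := by
          rw [Multiset.prod_map_mul, Multiset.map_const', Multiset.prod_replicate, hcard, h1, map_pow]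
      _ = _ := by
          refine congrArg Multiset.prod (Multiset.map_congr rfl fun ζ _ => ?_)
          rw [mul_sub, ← mul_assoc, ← map_mul, mul_inv_cancel₀ hθ0, map_one, one_mul, ← map_mul, mul_comm θ]
  have hne : (X ^ m - C c : K[X]).map (algebraMap K L) ≠ 0 := by
    rw [Polynomial.map_sub, Polynomial.map_pow, map_X, map_C]; exact X_pow_sub_C_ne_zero hm _
  have hspl : ((X ^ m - C c : K[X]).map (algebraMap K L)).Splits := by
    rw [hsplit]
    exact Splits.multisetProd fun P hP => by
      obtain ⟨ζ, -, rfl⟩ := Multiset.mem_map.1 hP; exact Splits.X_sub_C _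
  have hroot : ∀ g' : K[X], g' ∣ X ^ m - C c → (g'.map (algebraMap K L)).Splits ∧
      ∀ r ∈ (g'.map (algebraMap K L)).roots, ∃ ζ : K, ζ ≠ 0 ∧ r = algebraMap K L ζ * θ := by
    intro g' hg'
    have hd := Polynomial.map_dvd (algebraMap K L) hg'
    refine ⟨hspl.of_dvd hne hd, fun r hr => ?_⟩
    have hr' := Multiset.mem_of_le (roots.le_of_dvd hne hd) hr
    rw [hsplit, show (s.map fun ζ => X - C (algebraMap K L ζ * θ)) =
      (s.map fun ζ => algebraMap K L ζ * θ).map (fun z => X - C z) from
        (Multiset.map_map (g := fun z => X - C z) (f := fun ζ => algebraMap K L ζ * θ) s).symm,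
      roots_multiset_prod_X_sub_C] at hr'
    obtain ⟨ζ, hζ, rfl⟩ := Multiset.mem_map.1 hr'
    refine ⟨ζ, fun h0 => ?_, rfl⟩
    have h := isRoot_of_mem_roots hζ
    simp [h0, zero_pow hm.ne'] at h
  refine ⟨?_, fun g' hg'i hg'm hg'd => ?_⟩
  · have hprod : ∀ S : Multiset L, (∀ r ∈ S, ∃ ζ : K, ζ ≠ 0 ∧ r = algebraMap K L ζ * θ) →
        ∃ ζ : K, ζ ≠ 0 ∧ S.prod = algebraMap K L ζ * θ ^ Multiset.card S := by
      intro S
      induction S using Multiset.induction_on with
      | empty => intro _; exact ⟨1, one_ne_zero, by simp⟩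
      | cons r S ih =>
        intro h
        obtain ⟨ζ, h0, hζ⟩ := h r (Multiset.mem_cons_self _ _)
        obtain ⟨η, h0', hη⟩ := ih fun x hx => h x (Multiset.mem_cons_of_mem hx)
        exact ⟨ζ * η, mul_ne_zero h0 h0', by rw [Multiset.prod_cons, hζ, hη, Multiset.card_cons, map_mul, pow_succ]; ring⟩
    obtain ⟨hgs, hgr⟩ := hroot g hdvd
    obtain ⟨ζ, hζ0, hζ⟩ := hprod _ hgr
    rw [← hgs.natDegree_eq_card_roots, natDegree_map] at hζ
    have h0 := hgs.coeff_zero_eq_prod_roots_of_monic (hmon.map _)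
    rw [coeff_map, natDegree_map, hζ] at h0
    set r := g.natDegree
    refine ⟨ζ⁻¹ * (-1) ^ r * g.coeff 0, (eq_of_monic_of_dvd_of_natDegree_le hmon
      (monic_X_pow_sub_C _ (Irreducible.natDegree_pos hg).ne') ?_ (by rw [natDegree_X_pow_sub_C])).symm⟩
    rw [← AdjoinRoot.mk_eq_zero]
    have : θ ^ r = algebraMap K L (ζ⁻¹ * (-1) ^ r * g.coeff 0) := by
      rw [map_mul, map_mul, h0, map_pow, map_neg, map_one, map_inv₀]
      have : algebraMap K L ζ ≠ 0 := by simpa using hζ0
      field_simp
      rw [← pow_mul, mul_comm r 2, pow_mul, neg_one_sq, one_pow]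
    rw [map_sub, map_pow, AdjoinRoot.mk_X, AdjoinRoot.mk_C, sub_eq_zero]
    exact this
  · obtain ⟨hgs, hgr⟩ := hroot g' hg'd
    obtain ⟨r, hr⟩ := Multiset.card_pos_iff_exists_mem.1
      (show 0 < Multiset.card (g'.map (algebraMap K L)).roots by
        rw [← hgs.natDegree_eq_card_roots, natDegree_map]; exact hg'i.natDegree_pos)
    obtain ⟨ζ, hζ0, rfl⟩ := hgr r hr
    have hint : IsIntegral K (algebraMap K L ζ * θ) := by
      haveI := (AdjoinRoot.powerBasis hg.ne_zero).finite
      exact IsIntegral.of_finite K _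
    have hmin : minpoly K (algebraMap K L ζ * θ) = g' := by
      refine (minpoly.eq_of_irreducible_of_monic hg'i ?_ hg'm).symm
      have h := isRoot_of_mem_roots hr
      rwa [IsRoot, eval_map_algebraMap] at h
    rw [← hmin, ← IntermediateField.adjoin.finrank hint,
      show IntermediateField.adjoin K {algebraMap K L ζ * θ} = ⊤ from ?_, IntermediateField.finrank_top',
      (AdjoinRoot.powerBasis hg.ne_zero).finrank, AdjoinRoot.powerBasis_dim]
    rw [eq_top_iff]
    intro z _
    have hθmem : θ ∈ IntermediateField.adjoin K {algebraMap K L ζ * θ} := by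
      have h1 := IntermediateField.mul_mem _ ((IntermediateField.adjoin K {algebraMap K L ζ * θ}).algebraMap_mem ζ⁻¹)
        (IntermediateField.mem_adjoin_simple_self K (algebraMap K L ζ * θ))
      rwa [← mul_assoc, ← map_mul, inv_mul_cancel₀ hζ0, map_one, one_mul] at h1
    obtain ⟨q, rfl⟩ := AdjoinRoot.mk_surjective z
    rw [← AdjoinRoot.aeval_eq]
    have hle : Algebra.adjoin K {θ} ≤ (IntermediateField.adjoin K {algebraMap K L ζ * θ}).toSubalgebra :=
      Algebra.adjoin_le (Set.singleton_subset_iff.2 hθmem)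
    exact hle (aeval_mem_adjoin_singleton K θ)

variable {A : Type v} [Ring A] [Algebra K A]

/-- a degree-`n` annihilating polynomial with the same irreducible factors as the minimal one -/
theorem exists_redpoly [Algebra.IsCentral K A] [IsSimpleRing A] [FiniteDimensional K A]
    (n : ℕ) (hn : Module.finrank K A = n ^ 2) (x : A) :
    ∃ P : K[X], P.Monic ∧ P.natDegree = n ∧ ∀ g : K[X], Irreducible g → g.Monic → g ∣ P → g ∣ minpoly K x := by
  classical
  let Ω := AlgebraicClosure K
  haveI : IsSimpleRing (Ω ⊗[K] A) := Groth.Agent.CSA.isSimpleRing_baseChange K A Ω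
  obtain ⟨n', hn', ⟨φ⟩⟩ := IsSimpleRing.exists_algEquiv_matrix_of_isAlgClosed Ω (Ω ⊗[K] A)
  have hnn : n' = n := by
    have h := φ.toLinearEquiv.finrank_eq
    rw [Module.finrank_baseChange, hn, Module.finrank_matrix, Module.finrank_self, Fintype.card_fin, mul_one,
      ← pow_two] at h
    exact Nat.pow_left_injective two_ne_zero h.symm
  subst hnn
  obtain ⟨P, hP⟩ := Groth.Agent.CSA.exists_redCharpoly K A n' Ω φ x
  set M := φ (1 ⊗ₜ x)
  refine ⟨P, monic_of_injective (algebraMap K Ω).injective (hP ▸ M.charpoly_monic), ?_, fun g hgi hgm hgd => ?_⟩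
  · rw [← natDegree_map (algebraMap K Ω), hP, Matrix.charpoly_natDegree_eq_dim, Fintype.card_fin]
  · obtain ⟨θ, hθ⟩ := IsAlgClosed.exists_aeval_eq_zero Ω g (degree_pos_of_irreducible hgi).ne'
    have hθP : M.charpoly.IsRoot θ := by
      rw [← hP, IsRoot, eval_map_algebraMap]
      exact aeval_eq_zero_of_dvd_aeval_eq_zero hgd hθ
    rw [IsRoot, Matrix.eval_charpoly] at hθP
    obtain ⟨v, hv0, hv⟩ := Matrix.exists_mulVec_eq_zero_iff.2 hθP
    rw [Matrix.sub_mulVec, sub_eq_zero, Matrix.scalar_apply, ← Matrix.smul_one_eq_diagonal,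
      Matrix.smul_mulVec, Matrix.one_mulVec] at hv
    have hMv : ∀ q : K[X], (aeval M q).mulVec v = aeval θ q • v := by
      intro q
      induction q using Polynomial.induction_on' with
      | add a b ha hb => rw [map_add, map_add, Matrix.add_mulVec, ha, hb, add_smul]
      | monomial k a =>
        rw [aeval_monomial, aeval_monomial]
        have hk : (M ^ k).mulVec v = θ ^ k • v := by
          induction k with
          | zero => simp
          | succ k ih => rw [pow_succ, ← Matrix.mulVec_mulVec, ← hv, Matrix.mulVec_smul, ih, smul_smul, pow_succ']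
        rw [← Algebra.smul_def, Matrix.smul_mulVec, hk, ← Algebra.smul_def, smul_assoc]
    have hM : aeval M (minpoly K x) = 0 := by
      have hh := aeval_algHom_apply ((φ.toAlgHom.restrictScalars K).comp
        (Algebra.TensorProduct.includeRight : A →ₐ[K] Ω ⊗[K] A)) x (minpoly K x)
      rw [minpoly.aeval, map_zero] at hh
      exact hh
    have h1 := hMv (minpoly K x)
    rw [hM, Matrix.zero_mulVec, eq_comm, smul_eq_zero] at h1
    rw [minpoly.eq_of_irreducible_of_monic hgi hθ hgm]
    exact minpoly.dvd K θ (h1.resolve_right hv0)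

theorem exists_rth_form [Algebra.IsCentral K A] [IsSimpleRing A] [FiniteDimensional K A]
    (hK : ∀ m : ℕ, 0 < m → (X ^ m - 1 : K[X]).Splits) (n : ℕ) (hn : Module.finrank K A = n ^ 2)
    (x : A) (hx : IsUnit x) (hxm : ∃ m : ℕ, 0 < m ∧ x ^ m ∈ (algebraMap K A).range) :
    ∃ r : ℕ, 0 < r ∧ r ∣ n ∧ ∃ s : Multiset K, minpoly K x = (s.map fun a => X ^ r - C a).prod := by
  classical
  obtain ⟨m, hm, c, hc⟩ := hxm
  have hc0 : c ≠ 0 := by
    rintro rfl
    rw [map_zero] at hc
    exact (hx.pow m).ne_zero hc.symm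
  have hint := IsIntegral.of_finite K x
  have hdvd : minpoly K x ∣ X ^ m - C c := minpoly.dvd _ _ (by simp [hc])
  obtain ⟨g, hgmon, hgirr, hgdvd⟩ := Polynomial.exists_monic_irreducible_factor (minpoly K x) (minpoly.not_isUnit K x)
  have key := factor_shape hm (hK m hm) c hc0 hgirr hgmon (hgdvd.trans hdvd)
  have hfac : ∀ f : K[X], f.Monic → (∀ h : K[X], Irreducible h → h.Monic → h ∣ f → h ∣ minpoly K x) →
      ∃ s : Multiset K, f = (s.map fun a => X ^ g.natDegree - C a).prod := by
    intro f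
    induction hk : f.natDegree using Nat.strong_induction_on generalizing f with
    | _ k ih =>
      intro hfm hff
      by_cases h1 : f = 1
      · exact ⟨0, by simp [h1]⟩
      obtain ⟨h, hhm, hhi, hhd⟩ := Polynomial.exists_monic_irreducible_factor f
        (fun hu => h1 (hfm.eq_one_of_isUnit hu))
      obtain ⟨q, rfl⟩ := hhd
      have hhx := (hff h hhi hhm (dvd_mul_right _ _)).trans hdvd
      obtain ⟨⟨a, ha⟩, -⟩ := factor_shape hm (hK m hm) c hc0 hhi hhm hhx
      rw [key.2 h hhi hhm hhx] at ha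
      have hqm : q.Monic := hhm.of_mul_monic_left hfm
      have hlt : q.natDegree < k := by
        rw [← hk, hhm.natDegree_mul hqm]; have := hhi.natDegree_pos; omega
      obtain ⟨s, hs⟩ := ih _ hlt q rfl hqm fun w hw hwm hwd => hff w hw hwm (hwd.trans (dvd_mul_left _ _))
      exact ⟨a ::ₘ s, by rw [Multiset.map_cons, Multiset.prod_cons, ← hs, ← ha]⟩
  obtain ⟨P, hPm, hPdeg, hPf⟩ := exists_redpoly n hn x
  obtain ⟨t, ht⟩ := hfac P hPm hPf
  refine ⟨g.natDegree, hgirr.natDegree_pos, ?_, hfac _ (minpoly.monic hint) (fun _ _ _ h => h)⟩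
  rw [← hPdeg, ht, natDegree_multiset_prod_of_monic _ (fun f hf => by
    obtain ⟨a, -, rfl⟩ := Multiset.mem_map.1 hf; exact monic_X_pow_sub_C a hgirr.natDegree_pos.ne')]
  simp [natDegree_X_pow_sub_C]

end Groth.Agent.BddFinLib
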